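/-! Machine generated data for the 2-fusion system of the Hall-Janko group on 315 lines. -/

set_option autoImplicit false

namespace Cfsg.Agent.H8.J2Fusion

/-- Words for generators of a Sylow 2-subgroup. -/
def sylGens : List (List Nat) := [[1], [0], [5], [11], [4, 6], [4], [7]]

/-- Elements of the Sylow subgroup in the generators. -/
def sylWords : List (List Nat) := [[], [0], [1], [2], [3], [4], [5], [6], [0, 1], [0, 2], [0, 3], [0, 4], [0, 5], [0, 6], [1, 2], [1, 3], [1, 4], [1, 5], [1, 6], [2, 3], [2, 4], [2, 5], [2, 6], [3, 0], [3, 2], [3, 4], [3, 5], [3, 6], [4, 2], [4, 3], [4, 5], [4, 6], [5, 2], [5, 3], [5, 4], [5, 6], [6, 2], [6, 3], [6, 4], [6, 5], [0, 1, 2], [0, 1, 4], [0, 1, 5], [0, 1, 6], [0, 2, 3], [0, 2, 4], [0, 3, 2], [0, 3, 4], [0, 3, 5], [0, 3, 6], [0, 4, 2], [0, 4, 3], [0, 4, 6], [0, 5, 3], [0, 5, 6], [0, 6, 3], [0, 6, 4], [0, 6, 5], [1, 2, 5], [1,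 2, 6], [1, 3, 5], [1, 3, 6], [1, 4, 5], [1, 5, 2], [1, 5, 3], [1, 5, 4], [1, 6, 2], [1, 6, 3], [2, 3, 4], [2, 3, 5], [2, 3, 6], [2, 4, 3], [2, 4, 5], [2, 4, 6], [2, 5, 3], [2, 5, 4], [2, 5, 6], [2, 6, 3], [2, 6, 4], [2, 6, 5], [3, 0, 5], [3, 0, 6], [3, 2, 5], [3, 2, 6], [3, 4, 5], [3, 5, 2], [3, 5, 3], [3, 5, 4], [3, 5, 6], [3, 6, 2], [3, 6, 5], [4, 2, 5], [4, 3, 5], [4, 5, 6], [4, 6, 2], [4, 6, 5], [5, 2, 6], [5, 3, 0], [5, 3, 6], [5, 4, 6], [5, 6, 3], [5, 6, 4], [6, 2, 3], [6, 2, 5], [6, 3, 0], [6, 3, 2], [6, 3, 5], [6, 4, 2], [6, 5, 3], [0, 2, 3, 4], [0, 2, 4, 3], [0, 3, 2, 5], [0, 3, 2, 6], [0, 3, 5, 6], [0, 3, 6, 5], [0, 5, 3, 6], [0, 5, 6, 3], [0, 6, 3, 2], [0, 6, 3, 5], [0, 6, 5, 3], [1, 5, 3, 6], [1, 6, 3, 5], [2, 4, 5, 6], [2, 4, 6, 5], [2, 5, 3, 6], [2, 5, 4, 6], [2, 5, 6, 4], [4, 6, 5, 3]]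

/-- Right multiplication by the generators. -/
def sylNext : List (List Nat) := [[1, 2, 3, 4, 5, 6, 7], [0, 8, 9, 10, 11, 12, 13], [8, 0, 14, 15, 16, 17, 18], [9, 14, 2, 19, 20, 21, 22], [23, 15, 24, 0, 25, 26, 27], [11, 16, 28, 29, 2, 30, 31], [12, 17, 32, 33, 34, 8, 35], [13, 18, 36, 37, 38, 39, 0], [2, 1, 40, 23, 41, 42, 43], [3, 40, 8, 44, 45, 32, 36], [15, 23, 46, 1, 47, 48, 49], [5, 41, 50, 51, 8, 34, 52], [6, 42, 21, 53, 30, 2, 54], [7, 43, 22, 55, 56, 57, 1], [40, 3, 0, 24, 28, 58, 59], [10, 4, 19, 2, 29, 60, 61], [41, 5, 20, 25, 0, 62, 38], [42, 6, 63, 64, 65, 1, 39], [43, 7, 66, 67, 31, 35, 2], [46, 24, 4, 3, 68, 69, 70], [45, 28, 5, 71, 14, 72, 73], [32, 58, 42, 74, 75, 40, 76], [36, 59, 43, 77, 78, 79, 3], [4, 10, 44, 8, 51, 80, 81], [44, 19, 15, 14, 71, 82, 83], [51, 29, 68, 16, 15, 84, 37], [80, 60, 85, 86, 87, 10, 88], [81, 61, 89, 31, 67, 90, 4], [50, 20,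 16, 68, 3, 91, 78], [47, 25, 71, 5, 4, 92, 67], [34, 62, 86, 85, 42, 41, 93], [52, 38, 94, 27, 7, 95, 5], [21, 63, 17, 84, 72, 14, 96], [97, 64, 92, 6, 82, 71, 98], [30, 65, 91, 69, 17, 16, 99], [54, 39, 76, 100, 101, 13, 6], [22, 66, 18, 102, 94, 103, 9], [104, 67, 105, 7, 27, 106, 25], [56, 31, 107, 61, 18, 93, 16], [57, 35, 79, 108, 99, 43, 17], [14, 9, 1, 46, 50, 63, 66], [16, 11, 45, 47, 1, 65, 56], [17, 12, 58, 97, 62, 0, 57], [18, 13, 59, 104, 52, 54, 8], [24, 46, 10, 9, 109, 85, 89], [20, 50, 11, 110, 40, 75, 107], [19, 44, 23, 40, 110, 111, 112], [29, 51, 109, 41, 23, 74, 55], [60, 80, 69, 91, 92, 4, 113], [61, 81, 70, 52, 104, 114, 10], [28, 45, 41, 109, 9, 86, 94], [25, 47, 110, 11, 10, 87, 104], [31, 56, 78, 49, 13, 101, 11], [64, 97, 87, 12, 111, 110, 115], [35, 57, 96, 116, 95, 7, 12], [67, 104, 117, 13, 49, 118, 47], [38, 52, 73, 81, 43, 99, 41], [39, 54,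 103, 119, 93, 18, 42], [63, 21, 12, 87, 86, 9, 79], [66, 22, 13, 117, 73, 76, 14], [48, 26, 111, 75, 74, 23, 90], [49, 27, 112, 38, 37, 88, 15], [65, 30, 75, 111, 12, 11, 95], [58, 32, 6, 92, 91, 3, 103], [53, 33, 84, 17, 69, 68, 120], [62, 34, 72, 82, 6, 5, 101], [59, 36, 7, 105, 107, 96, 40], [55, 37, 102, 18, 61, 121, 29], [110, 71, 29, 28, 24, 97, 77], [111, 82, 80, 34, 33, 44, 108], [112, 83, 81, 73, 117, 100, 19], [109, 68, 25, 20, 19, 53, 117], [75, 91, 34, 80, 63, 50, 122], [107, 78, 52, 70, 22, 123, 20], [92, 87, 53, 21, 26, 25, 124], [72, 86, 30, 60, 58, 28, 125], [96, 79, 39, 88, 126, 36, 21], [105, 117, 55, 22, 70, 115, 68], [94, 73, 56, 83, 59, 122, 28], [103, 76, 35, 90, 125, 66, 58], [26, 48, 82, 72, 84, 15, 114], [27, 49, 83, 56, 55, 113, 23], [85, 69, 48, 65, 64, 46, 100], [89, 70, 49, 78, 77, 108, 24], [87, 92, 33, 32, 48, 47, 121], [82, 111, 60, 30, 53,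 19, 119], [91, 75, 62, 26, 21, 20, 126], [84, 74, 97, 58, 60, 29, 118], [114, 90, 100, 76, 124, 81, 26], [83, 112, 61, 107, 105, 116, 44], [113, 88, 108, 79, 118, 49, 60], [86, 72, 65, 48, 32, 45, 123], [74, 84, 64, 63, 80, 51, 106], [99, 95, 123, 115, 54, 52, 30], [78, 107, 38, 112, 66, 125, 50], [101, 93, 122, 127, 57, 56, 62], [76, 103, 57, 113, 123, 22, 32], [33, 53, 74, 42, 85, 109, 127], [127, 120, 124, 99, 108, 77, 33], [93, 101, 126, 98, 35, 31, 34], [119, 108, 90, 35, 98, 89, 82], [95, 99, 125, 120, 39, 38, 65], [117, 105, 37, 36, 89, 98, 109], [79, 96, 54, 114, 122, 59, 63], [37, 55, 77, 43, 81, 124, 51], [77, 102, 67, 66, 112, 120, 110], [124, 121, 115, 123, 113, 55, 92], [73, 94, 31, 89, 36, 126, 45], [116, 100, 88, 39, 120, 112, 69], [71, 110, 51, 50, 46, 64, 102], [68, 109, 47, 45, 44, 33, 105], [69, 85, 26, 62, 97, 24, 116], [70, 89, 27, 94, 102, 119, 46],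 [90, 114, 116, 96, 121, 61, 48], [88, 113, 119, 103, 106, 27, 80], [120, 127, 121, 93, 119, 102, 53], [108, 119, 114, 54, 115, 70, 111], [102, 77, 104, 59, 83, 127, 71], [121, 124, 98, 126, 88, 37, 87], [100, 116, 113, 57, 127, 83, 85], [115, 98, 118, 101, 100, 117, 64], [118, 106, 127, 122, 114, 104, 84], [125, 123, 93, 121, 96, 107, 72], [126, 122, 95, 106, 103, 94, 91], [106, 118, 120, 125, 90, 67, 74], [122, 126, 99, 124, 76, 73, 75], [123, 125, 101, 118, 79, 78, 86], [98, 115, 106, 95, 116, 105, 97]]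

/-- Generators of the radical subgroup. -/
def radIdx : List Nat := [1, 2, 3, 4, 5]

/-- Elements of the radical subgroup: index and word in its generators. -/
def radElts : List (Nat × List Nat) := [(0, []), (1, [0]), (2, [1]), (3, [2]), (4, [3]), (5, [4]), (8, [0, 1]), (9, [0, 2]), (10, [0, 3]), (11, [0, 4]), (14, [1, 2]), (15, [1, 3]), (16, [1, 4]), (19, [2, 3]), (20, [2, 4]), (23, [3, 0]), (24, [3, 2]), (25, [3, 4]), (28, [4, 2]), (29, [4, 3]), (40, [0, 1, 2]), (41, [0, 1, 4]), (44, [0, 2, 3]), (45, [0, 2, 4]), (46, [0, 3, 2]), (47, [0, 3, 4]), (50, [0, 4, 2]), (51, [0, 4, 3]), (68, [2, 3, 4]), (71, [2, 4, 3]), (109, [0, 2, 3, 4]), (110, [0, 2, 4, 3])]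

/-- Conjugates of the radical generators by the stabiliser generators. -/
def radConj : List (List Nat) := [[1, 2, 3, 4, 5], [1, 2, 3, 15, 5], [1, 2, 9, 110, 11], [1, 2, 3, 15, 16], [1, 2, 40, 110, 11], [1, 2, 9, 25, 16], [1, 2, 41, 24, 28], [1, 2, 20, 25, 9], [8, 2, 14, 15, 5], [8, 2, 14, 4, 16], [15, 2, 51, 29, 40]]

/-- Two-elements generating the line stabiliser: word and exponent. -/
def twoGens : List (List Nat × Nat) := [([1], 1), ([0], 1), ([4], 2), ([7], 1), ([5], 2), ([6], 1), ([11], 1), ([12, 8], 3)]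

/-- The stabiliser generators in the two-elements. -/
def twoExpr : List (List Nat) := [[1], [0], [2], [4], [5], [3], [3, 7, 3, 6, 7, 2, 7], [0, 7, 5, 7, 3, 7], [6, 4], [6], [2, 6, 7, 3, 7, 3]]

/-- The index of the central involution. -/
def tIdx : Nat := 2

/-- The derivation: `inl (i, j, k)` a product, `inr (i, w, k)` a conjugate. -/
def steps : List (Sum (Nat × Nat × Nat) (Nat × List Nat × Nat)) := [.inr (2, [2, 1, 0, 2], 1),
  .inr (2, [2, 0, 3, 0, 2], 24),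
  .inr (2, [3, 0, 2, 0, 3], 4),
  .inr (2, [1, 3, 0, 2, 0, 3], 15),
  .inr (2, [2, 1, 3, 2, 1, 0, 3, 2], 29),
  .inr (2, [1, 3, 2, 1, 0, 2, 1, 3, 2], 110),
  .inl (1, 110, 71),
  .inl (24, 15, 3),
  .inl (24, 29, 20),
  .inl (24, 71, 5),
  .inr (3, [2, 0, 3, 2, 3, 1, 2, 12, 11, 9, 12], 79),
  .inr (20, [2, 0, 3, 2, 3, 1, 2, 0, 10, 7], 12),
  .inl (1, 12, 6),
  .inl (24, 12, 85),
  .inl (4, 85, 32),
  .inl (79, 32, 7)]

end Cfsg.Agent.H8.J2Fusion
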